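import Groth.Agent.AGStr.QuotField.Space
import Groth.Agent.AlgSpDec.LqfScheme
import Groth.Agent.AlgSpDec.FppfDescent
import Groth.Agent.AlgSpPts.ProperSubspace
import Groth.Agent.AlgSpPts.Sep

/-!
# Affine charts of a quotient from finitely many translates over a finite extension
-/

set_option backward.isDefEq.respectTransparency false
set_option backward.isDefEq.respectTransparency.types false
set_option linter.style.haveILetI false

universe u

open CategoryTheory Limits MonoidalCategory CartesianMonoidalCategory AlgebraicGeometry AlgSp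
open Groth.Agent.AlgSpLib Groth.Agent.AlgSpVal

namespace Groth.Agent.AGStr.QuotField

section Map

variable {S : Scheme.{u}} {P F : Sp S} (E : Over S)

/-- The product of a morphism of spaces with a scheme. -/
noncomputable def mapSp (g : P ⟶ F) : prodSp P E ⟶ prodSp F E :=
  pullback.lift (fstSp P E ≫ g) (sndSp P E) (yon_hom_ext_unit _ _)

theorem mapSp_fst (g : P ⟶ F) : mapSp E g ≫ fstSp F E = fstSp P E ≫ g := pullback.lift_fst _ _ _

theorem isPullback_mapSp (g : P ⟶ F) : IsPullback (mapSp E g) (fstSp P E) (fstSp F E) g := by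
  refine IsPullback.of_right ?_ (mapSp_fst E g) (IsPullback.of_hasPullback (toBase F) ((yon S).map (toUnit E))).flip
  rw [show mapSp E g ≫ sndSp F E = sndSp P E from pullback.lift_snd _ _ _,
    show g ≫ toBase F = toBase P from yon_hom_ext_unit _ _]
  exact (IsPullback.of_hasPullback (toBase P) ((yon S).map (toUnit E))).flip

end Map

section Descent

variable {A A' : CommRingCat.{u}}

/-- A space over an affine base whose base change along an fppf covering is affine is affine. -/
theorem exists_affine_of_prod (φ : A ⟶ A') [Flat (Spec.map φ)] [Surjective (Spec.map φ)]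
    [LocallyOfFinitePresentation (Spec.map φ)] {P : Sp (Spec A)} {Z : Over (Spec A)} [IsAffine Z.left]
    (e : (yon (Spec A)).obj Z ≅ prodSp P (Over.mk (Spec.map φ ≫ 𝟙 _))) :
    ∃ C : Over (Spec A), IsAffine C.left ∧ Nonempty ((yon (Spec A)).obj C ≅ P) := by
  let E : Over (Spec A) := Over.mk (Spec.map φ ≫ 𝟙 _)
  let B : CommRingCat.{u} := Γ(Z.left, ⊤)
  obtain ⟨zE, hzE⟩ := (yon (Spec A)).map_surjective (e.hom ≫ sndSp P E)
  obtain ⟨γ, hγ⟩ := Spec.map_surjective (Z.left.isoSpec.inv ≫ Z.hom)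
  obtain ⟨β, hβ⟩ := Spec.map_surjective (Z.left.isoSpec.inv ≫ zE.left)
  have hφβ : φ ≫ β = γ := Spec.map_injective (by
    rw [Spec.map_comp, hβ, hγ, Category.assoc, ← Over.w zE]
    show Z.left.isoSpec.inv ≫ zE.left ≫ Spec.map φ = Z.left.isoSpec.inv ≫ zE.left ≫ Spec.map φ ≫ 𝟙 _
    rw [Category.comp_id])
  let i : Over.mk (Spec.map γ ≫ 𝟙 (Spec A)) ≅ Z := Over.isoMk Z.left.isoSpec.symm (by
    show Z.left.isoSpec.inv ≫ Z.hom = Spec.map γ ≫ 𝟙 _
    rw [Category.comp_id, hγ])
  let e' := (yon (Spec A)).mapIso i ≪≫ e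
  have hsnd : e'.hom ≫ sndSp P E = (yon (Spec A)).map (specHom φ β γ hφβ) := by
    show ((yon (Spec A)).map i.hom ≫ e.hom) ≫ sndSp P E = _
    rw [Category.assoc, ← hzE, ← Functor.map_comp]
    congr 1
    exact Over.OverMorphism.ext hβ.symm
  have sqW : IsPullback (e'.hom ≫ fstSp P E) ((yon (Spec A)).map (specHom φ β γ hφβ)) (toBase P)
      ((yon (Spec A)).map (specToBase (str := 𝟙 (Spec A)) φ)) := by
    rw [← hsnd, show specToBase (str := 𝟙 (Spec A)) φ = toUnit E from Over.OverMorphism.ext (Category.comp_id _).symm]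
    exact (IsPullback.of_hasPullback (toBase P) ((yon (Spec A)).map (toUnit E))).of_iso e'.symm (Iso.refl _)
      (Iso.refl _) (Iso.refl _) (by simp) (by simp) (by simp) (by simp)
  obtain ⟨C, c, eC, -⟩ := AlgSpDec.exists_affine_descent sqW
  exact ⟨_, inferInstanceAs (IsAffine (Spec C)), ⟨eC⟩⟩

end Descent

section Chart

variable {S : Scheme.{u}} [IsAffine S]

/-- An open subspace whose base change is affine, from finitely many translates. -/
theorem exists_chart {F : Sp S} {G R E T : Over S} [IsAffine E.left] [IsAffine T.left] [Surjective E.hom]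
    (t s : R ⟶ G) (p : (yon S).obj G ⟶ F) (hp : RepWith Groth.Agent.AlgSpLib.fppf p)
    (sq : IsPullback ((yon S).map t) ((yon S).map s) p p)
    (hsep : RepWith @IsClosedImmersion (Limits.diag (prodSp F E)))
    (j : (yon S).obj T ⟶ F) (hj : RepWith @IsOpenImmersion j)
    {J : Type u} [Finite J] [Nonempty J] (l l' : J → (G ⊗ E ⟶ G ⊗ E))
    (hll' : ∀ i, l i ≫ l' i = 𝟙 _) (hl'l : ∀ i, l' i ≫ l i = 𝟙 _)
    (L L' : J → (R ⊗ E ⟶ R ⊗ E)) (hLt : ∀ i, (t ▷ E) ≫ l i = L i ≫ (t ▷ E)) (hLs : ∀ i, (s ▷ E) ≫ l i = L i ≫ (s ▷ E))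
    (hLt' : ∀ i, (t ▷ E) ≫ l' i = L' i ≫ (t ▷ E)) (hLs' : ∀ i, (s ▷ E) ≫ l' i = L' i ≫ (s ▷ E))
    (O₀ : G.left.Opens) (hO : (fst G E).left ⁻¹' (O₀ : Set G.left) =
      ⋂ i, (l i ≫ fst G E).left ⁻¹' (Points.ofPt p ⁻¹' Set.range (Points.map j))) :
    ∃ (P : Sp S) (jP : P ⟶ F) (Z : Over S), RepWith @IsOpenImmersion jP ∧
      Set.range (Points.map jP) = Points.ofPt p '' (O₀ : Set G.left) ∧ IsAffine Z.left ∧
      Nonempty ((yon S).obj Z ≅ prodSp P E) := by
  classical
  let pE := chartE E p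
  have hpE : RepWith Groth.Agent.AlgSpLib.fppf pE := by
    exact repWith_of_isPullback (isPullback_chartE (E := E) p).flip hp
  haveI : Sheaf.IsLocallySurjective pE := isLocallySurjective_of_repWith hpE
  haveI : Epi pE := (Sheaf.isLocallySurjective_iff_epi pE).1 inferInstance
  have hps : RepWith @Surjective pE := repWith_mono (fun A B f (h : Groth.Agent.AlgSpLib.fppf f) => h.1.1) _ hpE
  have sqE := isPullback_kernelPair (E := E) p sq
  have hd : ∀ (a : G ⊗ E ⟶ G ⊗ E) (b : R ⊗ E ⟶ R ⊗ E), (t ▷ E) ≫ a = b ≫ (t ▷ E) → (s ▷ E) ≫ a = b ≫ (s ▷ E) →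
      ∃ f, pE ≫ f = (yon S).map a ≫ pE := fun a b ha hb => by
    refine AlgSpDec.exists_desc_of_kernelPair sqE _ ?_
    rw [← Functor.map_comp_assoc, ← Functor.map_comp_assoc, ha, hb, Functor.map_comp, Functor.map_comp,
      Category.assoc, Category.assoc, sqE.w]
  choose m hm using fun i => hd (l i) (L i) (hLt i) (hLs i)
  choose m' hm' using fun i => hd (l' i) (L' i) (hLt' i) (hLs' i)
  have hiso : ∀ i, IsIso (m i) := fun i => ⟨m' i, by
      rw [← cancel_epi pE, reassoc_of% hm, hm', ← Functor.map_comp_assoc, hll', CategoryTheory.Functor.map_id,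
        Category.id_comp, Category.comp_id], by
      rw [← cancel_epi pE, reassoc_of% hm', hm, ← Functor.map_comp_assoc, hl'l, CategoryTheory.Functor.map_id,
        Category.id_comp, Category.comp_id]⟩
  have hfst : ∀ x, Points.map (fstSp F E) (Points.ofPt pE x) = Points.ofPt p ((fst G E).left x) := fun x => by
    rw [Points.map_ofPt, chartE_fst, ofPt_comp]
  let jE := chartE E j
  have hjE : RepWith @IsOpenImmersion jE := repWith_of_isPullback (isPullback_chartE (E := E) j).flip hj
  have hjEr : Set.range (Points.map jE) = Points.map (fstSp F E) ⁻¹' Set.range (Points.map j) :=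
    range_map_snd_of_isPullback (isPullback_chartE (E := E) j).flip
  let a : J → ((yon S).obj (T ⊗ E) ⟶ prodSp F E) := fun i => haveI := hiso i; jE ≫ inv (m i)
  have ha : ∀ i, RepWith @IsOpenImmersion (a i) := fun i => by
    haveI := hiso i
    exact repWith_comp hjE (repWith_of_isIso _ _)
  have har : ∀ i x, Points.ofPt pE x ∈ Set.range (Points.map (a i)) ↔
      Points.ofPt p ((l i ≫ fst G E).left x) ∈ Set.range (Points.map j) := fun i x => by
    haveI := hiso i
    have h1 : Points.map (m i) (Points.ofPt pE x) = Points.ofPt pE ((l i).left x) := by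
      rw [Points.map_ofPt, hm, ofPt_comp]
    have h2 : Points.ofPt pE ((l i).left x) ∈ Set.range (Points.map jE) ↔
        Points.ofPt p ((l i ≫ fst G E).left x) ∈ Set.range (Points.map j) := by
      rw [hjEr, Set.mem_preimage, hfst, Over.comp_left, Scheme.Hom.comp_apply]
    rw [← h2, ← h1]
    constructor
    · rintro ⟨z, hz⟩
      refine ⟨z, ?_⟩
      rw [← hz, ← Points.map_comp, Category.assoc, IsIso.inv_hom_id, Category.comp_id]
    · rintro ⟨z, hz⟩
      refine ⟨z, ?_⟩
      rw [show a i = jE ≫ inv (m i) from rfl, Points.map_comp, hz, ← Points.map_comp, IsIso.hom_inv_id]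
      simp
  haveI := Fintype.ofFinite J
  haveI hTE : ∀ i : J, IsAffine ((fun _ : J => T ⊗ E) i).left := fun _ => inferInstanceAs (IsAffine (pullback T.hom E.hom))
  obtain ⟨Z, c, hZ, hc, hcr⟩ := @exists_inter_affine_finset S _ (prodSp F E) hsep J (fun _ : J => T ⊗ E) hTE a ha
    Finset.univ Finset.univ_nonempty
  have hR : ∀ x, Points.ofPt pE x ∈ Set.range (Points.map c) ↔ (fst G E).left x ∈ O₀ := fun x => by
    show _ ↔ x ∈ (fst G E).left ⁻¹' (O₀ : Set G.left)
    rw [hcr, hO]
    simp only [Finset.mem_univ, Set.iInter_true, Set.mem_iInter, Set.mem_preimage, har]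
  let W₀ : Set (Points F) := Points.ofPt p '' (O₀ : Set G.left)
  have hW₀ : IsOpen W₀ := AlgSpDec.Fppf.isOpenMap_ofPt hp _ O₀.2
  obtain ⟨P, jP, hjP, hjPr⟩ := AlgSpDec.Fppf.exists_open_subsheaf hW₀
  haveI : Surjective (fst G E).left := MorphismProperty.pullback_fst G.hom E.hom ‹Surjective E.hom›
  haveI : Surjective (fst R E).left := MorphismProperty.pullback_fst R.hom E.hom ‹Surjective E.hom›
  have hsat : ∀ x, Points.ofPt p x ∈ W₀ → x ∈ O₀ := by
    rintro x ⟨o, ho, hox⟩
    obtain ⟨w, hw1, hw2⟩ := exists_ofPt_of_eq sq (u := x) (v := o) hox.symm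
    obtain ⟨w', rfl⟩ := (fst R E).left.surjective w
    have e1 : ∀ f : R ⟶ G, (fst G E).left ((f ▷ E).left w') = f.left ((fst R E).left w') := fun f => by
      rw [← Scheme.Hom.comp_apply, ← Over.comp_left, whiskerRight_fst, Over.comp_left, Scheme.Hom.comp_apply]
    have h2 := (hR ((s ▷ E).left w')).2 (by rw [e1, hw2]; exact ho)
    rw [← ofPt_comp, ← sqE.w, ofPt_comp, hR, e1, hw1] at h2
    exact h2
  let d := mapSp E jP
  have hd' : RepWith @IsOpenImmersion d := repWith_of_isPullback (isPullback_mapSp E jP).flip hjP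
  have hdr : Set.range (Points.map d) = Set.range (Points.map c) := by
    rw [range_map_snd_of_isPullback (isPullback_mapSp E jP).flip, hjPr]
    ext z
    obtain ⟨x, rfl⟩ := surjective_ofPt hps z
    rw [Set.mem_preimage, hfst, hR]
    exact ⟨hsat _, fun h => ⟨_, h, rfl⟩⟩
  haveI : Mono c := AlgSpPts.mono_of_repWith (repWith_mono (fun _ _ g (_ : IsOpenImmersion g) =>
    (show (MorphismProperty.monomorphisms Scheme) g from inferInstanceAs (Mono g))) _ hc)
  haveI : Mono d := AlgSpPts.mono_of_repWith (repWith_mono (fun _ _ g (_ : IsOpenImmersion g) =>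
    (show (MorphismProperty.monomorphisms Scheme) g from inferInstanceAs (Mono g))) _ hd')
  obtain ⟨f, hf⟩ := AlgSpDec.exists_factor_open hd' c fun v => by
    rw [hdr, Points.ofPt_eq_map_ofScheme]
    exact ⟨_, rfl⟩
  haveI : Mono f := mono_of_mono_fac hf
  haveI : Sheaf.IsLocallySurjective f := by
    refine isLocallySurjective_of_lifts f fun U g => ?_
    obtain ⟨g', hg'⟩ := AlgSpDec.exists_factor_open hc (g ≫ d) fun v => by
      rw [← hdr, ← Points.map_ofPt]
      exact ⟨_, rfl⟩
    refine ⟨U, 𝟙 U, g', fppf_of (𝟙 U.left), ?_⟩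
    rw [CategoryTheory.Functor.map_id, Category.id_comp, ← cancel_mono d, Category.assoc, hf, hg']
  haveI := isIso_of_mono_of_locallySurjective f
  exact ⟨P, jP, Z, hjP, hjPr, hZ, ⟨asIso f⟩⟩

end Chart

end Groth.Agent.AGStr.QuotField
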