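import Groth.Agent.AGStr.QuotField.Chart
import Groth.Agent.GrpSchLib.HomFlat
import Groth.Agent.AlgSpDec.LqfQuot
import Groth.Agent.AlgSpDec.LimOpen
import Groth.Agent.AlgSpDec.OpenGlue

/-!
# Affine charts around a point of a quotient
-/

set_option backward.isDefEq.respectTransparency false
set_option backward.isDefEq.respectTransparency.types false
set_option linter.style.haveILetI false

universe u

open CategoryTheory Limits MonoidalCategory CartesianMonoidalCategory AlgebraicGeometry AlgSp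
open Groth.Agent.AlgSpLib

namespace Groth.Agent.AGStr.QuotField

section Sep

variable {S : Scheme.{u}}

/-- The binary product in the slice category is the tensor product. -/
theorem exists_tensor_iso (X Y : Over S) :
    ∃ i : X ⊗ Y ≅ X ⨯ Y, i.hom ≫ prod.fst = fst X Y ∧ i.hom ≫ prod.snd = snd X Y :=
  ⟨⟨prod.lift (fst X Y) (snd X Y), lift prod.fst prod.snd,
      by apply CartesianMonoidalCategory.hom_ext <;> simp,
      by apply Limits.prod.hom_ext <;> simp⟩, prod.lift_fst _ _, prod.lift_snd _ _⟩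

/-- The coset relation stays closed after a base change. -/
theorem isClosedImmersion_prodLift_whisker {G R E : Over S} [IsSeparated G.hom] [IsSeparated E.hom]
    (t s : R ⟶ G) [IsClosedImmersion (lift t s).left] :
    IsClosedImmersion (prod.lift (t ▷ E) (s ▷ E)).left := by
  obtain ⟨i, hi₁, hi₂⟩ := exists_tensor_iso (G ⊗ E) (G ⊗ E)
  let g : (G ⊗ E) ⨯ (G ⊗ E) ⟶ (G ⊗ G) ⊗ E := lift (lift (prod.fst ≫ fst G E) (prod.snd ≫ fst G E)) (prod.fst ≫ snd G E)
  haveI : IsSeparated (G ⊗ E).hom := inferInstanceAs (IsSeparated (pullback.fst G.hom E.hom ≫ G.hom))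
  haveI : IsSeparated ((G ⊗ E) ⊗ (G ⊗ E)).hom :=
    inferInstanceAs (IsSeparated (pullback.fst (G ⊗ E).hom (G ⊗ E).hom ≫ (G ⊗ E).hom))
  haveI : IsIso i.inv.left := inferInstanceAs (IsIso ((Over.forget S).map i.inv))
  haveI : IsSeparated ((G ⊗ E) ⨯ (G ⊗ E)).hom := by
    rw [← Over.w i.inv]; infer_instance
  haveI : IsSeparated g.left := by
    haveI : IsSeparated (g.left ≫ ((G ⊗ G) ⊗ E).hom) := by rw [Over.w]; infer_instance
    exact IsSeparated.of_comp g.left ((G ⊗ G) ⊗ E).hom
  have e : prod.lift (t ▷ E) (s ▷ E) ≫ g = (lift t s) ▷ E := by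
    apply CartesianMonoidalCategory.hom_ext
    · apply CartesianMonoidalCategory.hom_ext <;> simp [g]
    · simp [g]
  haveI : IsClosedImmersion ((prod.lift (t ▷ E) (s ▷ E)).left ≫ g.left) := by
    rw [← Over.comp_left, e]
    exact MorphismProperty.of_isPullback (GrpSchLib.isPullback_whiskerRight (lift t s) E).flip inferInstance
  exact IsClosedImmersion.of_comp _ g.left

end Sep

variable {A A' : CommRingCat.{u}}

/-- An affine chart around the image of a point, from finitely many translates over an fppf affine covering of the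
base. -/
theorem exists_affine_chart (φ : A ⟶ A') [Flat (Spec.map φ)] [Surjective (Spec.map φ)]
    [LocallyOfFinitePresentation (Spec.map φ)] {E : Over (Spec A)} (hE : E = Over.mk (Spec.map φ))
    {F : Sp (Spec A)} {G R T : Over (Spec A)} [IsAffine T.left] [IsSeparated G.hom]
    (t s : R ⟶ G) [Flat t.left] [Flat s.left] [LocallyOfFinitePresentation t.left] [LocallyOfFinitePresentation s.left]
    [IsClosedImmersion (lift t s).left]
    (p : (yon (Spec A)).obj G ⟶ F) (hp : RepWith Groth.Agent.AlgSpLib.fppf p)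
    (sq : IsPullback ((yon (Spec A)).map t) ((yon (Spec A)).map s) p p)
    (j : (yon (Spec A)).obj T ⟶ F) (hj : RepWith @IsOpenImmersion j)
    {J : Type u} [Finite J] [Nonempty J] (l l' : J → (G ⊗ E ⟶ G ⊗ E))
    (hll' : ∀ i, l i ≫ l' i = 𝟙 _) (hl'l : ∀ i, l' i ≫ l i = 𝟙 _)
    (L L' : J → (R ⊗ E ⟶ R ⊗ E)) (hLt : ∀ i, (t ▷ E) ≫ l i = L i ≫ (t ▷ E)) (hLs : ∀ i, (s ▷ E) ≫ l i = L i ≫ (s ▷ E))
    (hLt' : ∀ i, (t ▷ E) ≫ l' i = L' i ≫ (t ▷ E)) (hLs' : ∀ i, (s ▷ E) ≫ l' i = L' i ≫ (s ▷ E))
    (O₀ : G.left.Opens) (hO : (fst G E).left ⁻¹' (O₀ : Set G.left) =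
      ⋂ i, (l i ≫ fst G E).left ⁻¹' (Points.ofPt p ⁻¹' Set.range (Points.map j))) :
    ∃ (C : Over (Spec A)) (jC : (yon (Spec A)).obj C ⟶ F), IsAffine C.left ∧ RepWith @IsOpenImmersion jC ∧
      Set.range (Points.map jC) = Points.ofPt p '' (O₀ : Set G.left) := by
  have hE' : E = Over.mk (Spec.map φ ≫ 𝟙 (Spec A)) := by rw [hE, Category.comp_id]
  haveI : IsAffine E.left := by rw [hE]; exact inferInstanceAs (IsAffine (Spec A'))
  haveI : Surjective E.hom := by subst hE; exact inferInstanceAs (Surjective (Spec.map φ))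
  haveI : IsSeparated E.hom := by subst hE; exact inferInstanceAs (IsSeparated (Spec.map φ))
  haveI : Flat (t ▷ E).left := MorphismProperty.of_isPullback (GrpSchLib.isPullback_whiskerRight t E).flip inferInstance
  haveI : Flat (s ▷ E).left := MorphismProperty.of_isPullback (GrpSchLib.isPullback_whiskerRight s E).flip inferInstance
  haveI : LocallyOfFinitePresentation (t ▷ E).left :=
    MorphismProperty.of_isPullback (GrpSchLib.isPullback_whiskerRight t E).flip inferInstance
  haveI : LocallyOfFinitePresentation (s ▷ E).left :=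
    MorphismProperty.of_isPullback (GrpSchLib.isPullback_whiskerRight s E).flip inferInstance
  have hpE : RepWith Groth.Agent.AlgSpLib.fppf (chartE E p) :=
    repWith_of_isPullback (isPullback_chartE (E := E) p).flip hp
  haveI : Sheaf.IsLocallySurjective (chartE E p) := isLocallySurjective_of_repWith hpE
  have sqE := isPullback_kernelPair (E := E) p sq
  have hA := AlgSpDec.isAlgSpace_of_flat_kernelPair sqE
  have := AlgSpPts.isLocalAtTarget_fppf (@IsClosedImmersion : MorphismProperty Scheme.{u})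
  have hsep := QuotSpace.repWith_diag_of_fppf @IsClosedImmersion hA.diag (chartE E p) hpE _ _ sqE
    (isClosedImmersion_prodLift_whisker t s)
  obtain ⟨P, jP, Z, hjP, hr, hZ, ⟨e⟩⟩ :=
    exists_chart t s p hp sq hsep j hj l l' hll' hl'l L L' hLt hLs hLt' hLs' O₀ hO
  haveI := hZ
  obtain ⟨C, hC, ⟨eC⟩⟩ : ∃ C : Over (Spec A), IsAffine C.left ∧ Nonempty ((yon (Spec A)).obj C ≅ P) := by
    subst hE'
    exact exists_affine_of_prod φ e
  refine ⟨C, eC.hom ≫ jP, hC, repWith_comp (repWith_of_isIso _ _) hjP, ?_⟩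
  rw [← hr]
  ext x
  constructor
  · rintro ⟨z, rfl⟩
    exact ⟨_, (Points.map_comp _ _ _).symm⟩
  · rintro ⟨z, rfl⟩
    refine ⟨Points.map eC.inv z, ?_⟩
    rw [← Points.map_comp, Iso.inv_hom_id_assoc]

end Groth.Agent.AGStr.QuotField
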