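import Groth.Agent.GrpSchLib.AdjointQuot
import Groth.Agent.GeomField.Descend
import Groth.Agent.AGStr.Basic

/-!
# Translates of an open subset by the points over a closed point

For a nonempty open subset `V` of a connected group `G` of finite type over a field and a closed point `y`, there
are a finite normal extension `N` and finitely many `N`-points `τ` such that the intersection of the translates of
`V_N` is stable under the automorphisms of `N` and contains the fibre over `y`.
-/

set_option backward.isDefEq.respectTransparency false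
set_option backward.isDefEq.respectTransparency.types false
set_option linter.style.haveILetI false

universe u

open CategoryTheory CategoryTheory.Limits MonoidalCategory CartesianMonoidalCategory MonObj GrpObj AlgebraicGeometry

namespace Groth.Agent.AGStr.QuotField

variable {k : Type u} [Field k] {G : Over (Spec (CommRingCat.of k))} [GrpObj G]

/-- Translation by a point with values in `E`. -/
noncomputable abbrev transE {E : Over (Spec (CommRingCat.of k))} (τ : E ⟶ G) : G ⊗ E ⟶ G ⊗ E :=
  lift ((snd G E ≫ τ) * fst G E) (snd G E)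

theorem transE_comp {E : Over (Spec (CommRingCat.of k))} (τ τ' : E ⟶ G) : transE τ' ≫ transE τ = transE (τ * τ') := by
  apply CartesianMonoidalCategory.hom_ext <;>
    simp [transE, MonObj.comp_mul, _root_.mul_assoc]

theorem transE_one {E : Over (Spec (CommRingCat.of k))} : transE (1 : E ⟶ G) = 𝟙 (G ⊗ E) := by
  apply CartesianMonoidalCategory.hom_ext <;> simp [transE]

/-- Specializations within a finite fibre are equalities. -/
theorem eq_of_specializes_of_isFinite {X Y : Scheme.{u}} (f : X ⟶ Y) [IsFinite f] {a b : X} (h : a ⤳ b)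
    (hf : f a = f b) : a = b := by
  haveI : DiscreteTopology ↥(f ⁻¹' {f b}) :=
    (f.isDiscrete_preimage_singleton (f b)).to_subtype
  have h' : (⟨a, hf⟩ : f ⁻¹' {f b}) ⤳ ⟨b, rfl⟩ := (subtype_specializes_iff _ _).mpr h
  exact congrArg Subtype.val h'.eq

/-- Finitely many translates of an open subset, stable and containing a given closed fibre. -/
theorem exists_translates [LocallyOfFiniteType G.hom] [QuasiCompact G.hom] [ConnectedSpace G.left]
    (V : G.left.Opens) (hV : (V : Set G.left).Nonempty) (y : G.left) (hy : IsClosed ({y} : Set G.left)) :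
    ∃ (N : Type u) (_ : Field N) (_ : Algebra k N) (_ : FiniteDimensional k N) (_ : Normal k N)
      (E : Over (Spec (CommRingCat.of k))) (_ : E = Over.mk (Spec.map (CommRingCat.ofHom (algebraMap k N))))
      (J : Type u) (_ : Finite J) (_ : Nonempty J) (τ : J → (E ⟶ G)) (O₀ : G.left.Opens),
      y ∈ O₀ ∧ (fst G E).left ⁻¹' (O₀ : Set G.left) = ⋂ i, (transE (τ i) ≫ fst G E).left ⁻¹' (V : Set G.left) := by
  classical
  haveI := GrpSchLib.Adjoint.geometricallyIrreducible (G := G)
  haveI : UniversallyOpen G.hom := inferInstance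
  haveI : JacobsonSpace G.left := LocallyOfFiniteType.jacobsonSpace G.hom
  haveI : IsSeparated G.hom := GrpSchLib.AntiAffine.isSeparated_grp G
  -- the bad set
  have hfin : ∀ z : G.left, IsClosed ({z} : Set G.left) → IsFinite (G.left.fromSpecResidueField z ≫ G.hom) := by
    intro z hz
    rw [isClosed_singleton_iff_isClosedImmersion] at hz
    rw [isFinite_iff_locallyOfFiniteType_of_jacobsonSpace]
    infer_instance
  let Ey : Over (Spec (CommRingCat.of k)) := Over.mk (G.left.fromSpecResidueField y ≫ G.hom)
  let py : Ey ⟶ G := Over.homMk (G.left.fromSpecResidueField y) rfl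
  haveI : IsFinite Ey.hom := hfin y hy
  let m : G ⊗ Ey ⟶ G := fst G Ey * (snd G Ey ≫ py)
  haveI : IsFinite (fst G Ey).left := MorphismProperty.pullback_fst G.hom Ey.hom ‹IsFinite Ey.hom›
  let B : Set G.left := (fst G Ey).left '' (m.left ⁻¹' (V : Set G.left)ᶜ)
  have hBc : IsClosed B := (fst G Ey).left.isClosedMap _ (V.2.isClosed_compl.preimage m.left.continuous)
  haveI : IrreducibleSpace G.left := GeometricallyIrreducible.irreducibleSpace G.hom G.hom.isOpenMap
  have hBne : Bᶜ.Nonempty := by
    refine ⟨genericPoint G.left, ?_⟩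
    rintro ⟨z, hz, hzg⟩
    haveI : IrreducibleSpace (G ⊗ Ey).left := by
      haveI : IrreducibleSpace ↥(pullback G.hom (G.left.fromSpecResidueField y ≫ G.hom)) :=
        GeometricallyIrreducible.geometrically_irreducibleSpace (f := G.hom) _ _ _ (IsPullback.of_hasPullback _ _)
      exact this
    have hξ : genericPoint (G ⊗ Ey).left ⤳ z := genericPoint_specializes z
    have h1 : (fst G Ey).left (genericPoint (G ⊗ Ey).left) = genericPoint G.left := by
      refine ((genericPoint_specializes _).antisymm ?_).eq.symm
      rw [← hzg]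
      exact hξ.map (fst G Ey).left.continuous
    have h2 := eq_of_specializes_of_isFinite (fst G Ey).left hξ (h1.trans hzg.symm)
    -- the multiplication by the closed point is surjective
    let sh : G ⊗ Ey ⟶ G ⊗ Ey := lift (fst G Ey * (snd G Ey ≫ py)⁻¹) (snd G Ey)
    have hsh : sh ≫ m = fst G Ey := by
      simp [sh, m, MonObj.comp_mul, GrpObj.comp_inv]
    obtain ⟨v, hv⟩ := hV
    haveI : Nonempty Ey.left := inferInstanceAs (Nonempty (Spec (G.left.residueField y)))
    haveI : Surjective Ey.hom := ⟨Function.surjective_to_subsingleton (α := Ey.left)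
      (β := Spec (CommRingCat.of k)) _⟩
    haveI : Surjective (fst G Ey).left := MorphismProperty.pullback_fst G.hom Ey.hom ‹Surjective Ey.hom›
    obtain ⟨w, rfl⟩ := (fst G Ey).left.surjective v
    have h3 : (genericPoint (G ⊗ Ey).left) ∈ m.left ⁻¹' (V : Set G.left) := by
      refine (genericPoint_specializes (sh.left w)).mem_open (V.2.preimage m.left.continuous) ?_
      show (sh.left ≫ m.left) w ∈ V
      rw [← Over.comp_left, hsh]
      exact hv
    exact hz (h2 ▸ h3)
  obtain ⟨g₀, hg0B, hg0⟩ := nonempty_inter_closedPoints hBne hBc.isOpen_compl.isLocallyClosed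
  have hcond : ∀ z : (G ⊗ G).left, (fst G G).left z = g₀ → (snd G G).left z = y → μ[G].left z ∈ V := by
    intro z hz1 hz2
    have hz2' : (snd G G).left z = py.left (IsLocalRing.closedPoint _) := by
      rw [hz2]; exact (Scheme.fromSpecResidueField_apply _ _).symm
    obtain ⟨w, hw⟩ : z ∈ Set.range (G ◁ py).left := by
      have hp : IsPullback (G ◁ py).left (snd G Ey).left (snd G G).left py.left :=
        GrpSchLib.isPullback_whiskerLeft py
      obtain ⟨q, hq1, -⟩ := Scheme.Pullback.exists_preimage_pullback (f := (snd G G).left) (g := py.left) z _ hz2'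
      refine ⟨hp.isoPullback.inv q, ?_⟩
      rw [← Scheme.Hom.comp_apply, hp.isoPullback_inv_fst, hq1]
    by_contra hzV
    refine hg0B ⟨w, ?_, ?_⟩
    · show m.left w ∉ V
      have e : m = (G ◁ py) ≫ μ[G] := by
        simp [m, MonObj.mul_eq_mul, MonObj.comp_mul]
      rw [e, Over.comp_left, Scheme.Hom.comp_apply, hw]
      exact hzV
    · have e : fst G Ey = (G ◁ py) ≫ fst G G := (whiskerLeft_fst _ _).symm
      rw [e, Over.comp_left, Scheme.Hom.comp_apply, hw, hz1]
  -- the extension and the points over `g₀`
  haveI := hfin g₀ hg0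
  let κ : Type u := G.left.residueField g₀
  obtain ⟨φ₀, hφ₀⟩ := Spec.map_surjective (G.left.fromSpecResidueField g₀ ≫ G.hom)
  letI : Algebra k κ := φ₀.hom.toAlgebra
  haveI : FiniteDimensional k κ := by
    have h : IsFinite (Spec.map φ₀) := by rw [hφ₀]; infer_instance
    exact (IsFinite.SpecMap_iff _).mp h
  let Ω := AlgebraicClosure κ
  haveI : Algebra.IsAlgebraic k Ω := Algebra.IsAlgebraic.trans k κ Ω
  let N := IntermediateField.normalClosure k κ Ω
  let E : Over (Spec (CommRingCat.of k)) := Over.mk (Spec.map (CommRingCat.ofHom (algebraMap k N)))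
  let τ : (κ →ₐ[k] N) → (E ⟶ G) := fun φ => Over.homMk (Spec.map (CommRingCat.ofHom φ.toRingHom) ≫
    G.left.fromSpecResidueField g₀) (by
      show (Spec.map _ ≫ G.left.fromSpecResidueField g₀) ≫ G.hom = Spec.map _
      rw [Category.assoc, ← hφ₀, ← Spec.map_comp]
      congr 1
      ext x
      exact congrArg Subtype.val (φ.commutes x))
  have hne : Nonempty (κ →ₐ[k] N) := by
    refine ⟨(IsScalarTower.toAlgHom k κ Ω).codRestrict N.toSubalgebra fun x => ?_⟩
    exact AlgHom.fieldRange_le_normalClosure (IsScalarTower.toAlgHom k κ Ω) ⟨x, rfl⟩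
  let O : Set (G ⊗ E).left := ⋂ φ, (transE (τ φ) ≫ fst G E).left ⁻¹' (V : Set G.left)
  have hO : IsOpen O := isOpen_iInter_of_finite fun φ => V.2.preimage (transE (τ φ) ≫ fst G E).left.continuous
  have hflat : IsOpenMap (fst G E).left := by
    haveI : Flat E.hom := inferInstance
    haveI : LocallyOfFiniteType E.hom := by
      haveI : IsFinite E.hom := (IsFinite.SpecMap_iff _).mpr (RingHom.finite_algebraMap.mpr inferInstance)
      infer_instance
    haveI : UniversallyOpen E.hom := inferInstance
    haveI : UniversallyOpen (fst G E).left := MorphismProperty.pullback_fst G.hom E.hom ‹UniversallyOpen E.hom›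
    exact (fst G E).left.isOpenMap
  refine ⟨N, inferInstance, inferInstance, inferInstance, inferInstance, E, rfl, κ →ₐ[k] N, inferInstance, hne, τ,
    ⟨(fst G E).left '' O, hflat _ hO⟩, ?_, ?_⟩
  · haveI : Nonempty E.left := inferInstanceAs (Nonempty (Spec (CommRingCat.of N)))
    haveI : Surjective E.hom := ⟨Function.surjective_to_subsingleton (α := E.left)
      (β := Spec (CommRingCat.of k)) _⟩
    haveI : Surjective (fst G E).left := MorphismProperty.pullback_fst G.hom E.hom ‹Surjective E.hom›
    obtain ⟨x, hx⟩ := (fst G E).left.surjective y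
    refine ⟨x, Set.mem_iInter.mpr fun φ => ?_, hx⟩
    show (transE (τ φ) ≫ fst G E).left x ∈ V
    have e : transE (τ φ) ≫ fst G E = lift (snd G E ≫ τ φ) (fst G E) ≫ μ[G] := by
      simp [transE, MonObj.mul_eq_mul, MonObj.comp_mul]
    rw [e, Over.comp_left, Scheme.Hom.comp_apply]
    refine hcond _ ?_ ?_
    · rw [← Scheme.Hom.comp_apply, ← Over.comp_left, lift_fst, Over.comp_left, Scheme.Hom.comp_apply]
      show G.left.fromSpecResidueField g₀ _ = g₀
      exact Scheme.fromSpecResidueField_apply _ _
    · rw [← Scheme.Hom.comp_apply, ← Over.comp_left, lift_snd, hx]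
  · refine Set.Subset.antisymm ?_ fun x hx => ⟨x, hx, rfl⟩
    rintro x' ⟨x, hx, hxx'⟩
    letI : G.left.Over (Spec (CommRingCat.of k)) := ⟨G.hom⟩
    obtain ⟨σ, hσ⟩ := GeomField.exists_galAct_eq (k := k) (X := G.left) (K := N) x x' hxx'
    refine Set.mem_iInter.mpr fun φ => ?_
    let ψ : κ →ₐ[k] N := (σ : N →ₐ[k] N).comp φ
    have e : Curv2.galAct k G.left N σ ≫ (transE (τ φ) ≫ fst G E).left = (transE (τ ψ) ≫ fst G E).left := by
      let g : G ⊗ E ⟶ G ⊗ E := Over.homMk (Curv2.galAct k G.left N σ) (by
        rw [show (G ⊗ E).hom = pullback.fst G.hom E.hom ≫ G.hom from rfl]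
        show Curv2.galAct k G.left N σ ≫ pullback.fst G.hom E.hom ≫ G.hom = pullback.fst G.hom E.hom ≫ G.hom
        erw [pullback.lift_fst_assoc, Category.comp_id]; rfl)
      let sE : E ⟶ E := Over.homMk (Spec.map (CommRingCat.ofHom (σ : N →ₐ[k] N).toRingHom)) (by
        show Spec.map _ ≫ Spec.map _ = Spec.map _
        rw [← Spec.map_comp, ← CommRingCat.ofHom_comp]
        exact congrArg (fun r => Spec.map (CommRingCat.ofHom r)) (σ : N →ₐ[k] N).comp_algebraMap)
      have h1 : g ≫ fst G E = fst G E := Over.OverMorphism.ext (by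
        show Curv2.galAct k G.left N σ ≫ pullback.fst G.hom E.hom = pullback.fst G.hom E.hom
        exact (pullback.lift_fst _ _ _).trans (Category.comp_id _))
      have h2 : g ≫ snd G E = snd G E ≫ sE := Over.OverMorphism.ext (pullback.lift_snd _ _ _)
      have h3 : sE ≫ τ φ = τ ψ := Over.OverMorphism.ext (by
        show Spec.map _ ≫ Spec.map _ ≫ _ = Spec.map _ ≫ _
        rw [← Spec.map_comp_assoc]
        rfl)
      have h4 : g ≫ transE (τ φ) ≫ fst G E = transE (τ ψ) ≫ fst G E := by
        simp [transE, MonObj.comp_mul, h1, reassoc_of% h2, h3]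
      exact congrArg CommaMorphism.left h4
    have hx' := Set.mem_iInter.mp hx ψ
    rw [← e] at hx'
    show (transE (τ φ) ≫ fst G E).left x' ∈ V
    rw [← hσ]
    exact hx'

end Groth.Agent.AGStr.QuotField
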