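import Groth.Agent.AGStr.QuotAlgClosed
import Groth.Agent.AGStr.QuotField.Space2
import Groth.Agent.AGStr.QuotField.Translate

/-!
# Quotients of connected algebraic groups over a field
-/

set_option backward.isDefEq.respectTransparency false
set_option backward.isDefEq.respectTransparency.types false
set_option linter.style.haveILetI false

universe u

open CategoryTheory Limits MonoidalCategory CartesianMonoidalCategory MonObj GrpObj AlgebraicGeometry AlgSp
open Groth.Agent.AlgSpLib Groth.Agent.AGStr.QuotAlgClosed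

namespace Groth.Agent.AGStr.QuotField

variable {k : Type u} [Field k]

/-- The quotient of an algebraic group by a closed subgroup exists over a field. -/
theorem exists_quot (G H : Over (Spec (CommRingCat.of k))) [GrpObj G] [GrpObj H]
    [LocallyOfFiniteType G.hom] [QuasiCompact G.hom] [ConnectedSpace G.left] (u : H ⟶ G) [IsMonHom u] [IsClosedImmersion u.left] :
    ∃ (Q : Over (Spec (CommRingCat.of k))) (q : G ⟶ Q), RedSub.IsQuotient u q ∧
      IsSeparated Q.hom ∧ LocallyOfFiniteType Q.hom ∧ QuasiCompact Q.hom := by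
  let S := Spec (CommRingCat.of k)
  haveI : Mono u := (Over.forget _).mono_of_mono_map (inferInstanceAs (Mono u.left))
  haveI : LocallyOfFiniteType H.hom := by rw [← Over.w u]; infer_instance
  haveI : LocallyOfFinitePresentation H.hom := inferInstance
  haveI : Flat (rs (G := G) (H := H)).left := MorphismProperty.pullback_fst G.hom H.hom inferInstance
  haveI : LocallyOfFinitePresentation (rs (G := G) (H := H)).left :=
    MorphismProperty.pullback_fst G.hom H.hom inferInstance
  haveI : Surjective (rs (G := G) (H := H)).left :=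
    MorphismProperty.pullback_fst G.hom H.hom
      ⟨fun x => ⟨η[H].left (IsLocalRing.closedPoint k), Subsingleton.elim _ _⟩⟩
  haveI : IsIso (shear u).hom.left := inferInstanceAs (IsIso ((Over.forget _).map (shear u).hom))
  have hst : (rt u).left = (shear u).hom.left ≫ (rs (G := G) (H := H)).left := by
    rw [← Over.comp_left, shear_fst]
  haveI : Flat (rt u).left := by rw [hst]; infer_instance
  haveI : LocallyOfFinitePresentation (rt u).left := by rw [hst]; infer_instance
  have hrel := isEqvRel u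
  let p := AlgSpPts.quotMap (rs (G := G) (H := H)) (rt u)
  have sq := AlgSpPts.isPullback_quotMap hrel
  haveI : Sheaf.IsLocallySurjective p := AlgSpDec.isLocallySurjective_quotMap _ _
  have hA := AlgSpDec.isAlgSpace_of_flat_kernelPair sq
  have hr : Representable p := hA.representable_from_yon p
  have := AlgSpPts.isLocalAtTarget_fppf (@Flat : MorphismProperty Scheme.{u})
  have := AlgSpPts.isLocalAtTarget_fppf (@LocallyOfFinitePresentation : MorphismProperty Scheme.{u})
  have := AlgSpPts.isLocalAtTarget_fppf (@Surjective : MorphismProperty Scheme.{u})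
  have := AlgSpPts.isLocalAtTarget_fppf (@IsClosedImmersion : MorphismProperty Scheme.{u})
  have hpf : RepWith @Flat p :=
    AlgSpPts.repWith_of_locallySurjective hr p sq @Flat ((repWith_yon_map_iff _ _).2 inferInstance)
  have hpl : RepWith @LocallyOfFinitePresentation p :=
    AlgSpPts.repWith_of_locallySurjective hr p sq @LocallyOfFinitePresentation
      ((repWith_yon_map_iff _ _).2 inferInstance)
  have hps : RepWith @Surjective p :=
    AlgSpPts.repWith_of_locallySurjective hr p sq @Surjective ((repWith_yon_map_iff _ _).2 inferInstance)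
  have hp : RepWith Groth.Agent.AlgSpLib.fppf p := (repWith_inf_iff _).2 ⟨(repWith_inf_iff _).2 ⟨hps, hpf⟩, hpl⟩
  have hci : IsClosedImmersion (prod.lift (rt u) (rs (G := G) (H := H))).left :=
    MorphismProperty.of_isPullback ((isPullback_prod u).map (Over.forget _)) ‹IsClosedImmersion u.left›
  have hsep : IsSeparatedSp _ := QuotSpace.repWith_diag_of_fppf @IsClosedImmersion hA.diag p hp _ _ sq hci
  have hle : (@IsClosedImmersion : MorphismProperty Scheme.{u}) ≤ @QuasiCompact := fun _ _ f hf => by
    haveI := hf; infer_instance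
  have hqs : IsQuasiSeparatedSp (QuotSh.quot Scheme.fppfPrecoverage (rs (G := G) (H := H)) (rt u)) :=
    repWith_mono hle _ hsep
  -- an open subscheme
  obtain ⟨U₀, a₀, ha₀, ha₀s⟩ := hA.atlas
  let g₁ : G.left := η[G].left (IsLocalRing.closedPoint k)
  obtain ⟨w₁, -⟩ := QuotSpace.exists_ofPt_chart a₀ ha₀s (Points.ofPt p g₁)
  obtain ⟨u₀, -, hu₀⟩ := AlgSpDec.exists_codimZero_mem (⊤ : U₀.left.Opens) ⟨w₁, trivial⟩
  obtain ⟨T, j, hj, z₀, hz₀⟩ := AlgSpDec.exists_open_subscheme_of_codimZero_qs hA hqs ha₀ u₀ hu₀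
  -- an affine one
  obtain ⟨_, ⟨⟨W, hW, rfl⟩, hzW, -⟩⟩ :=
    T.left.isBasis_affineOpens.exists_subset_of_mem_open (Set.mem_univ (Points.toScheme T z₀)) isOpen_univ
  let T' : Over S := Over.mk ((Scheme.Opens.ι (X := T.left) W) ≫ T.hom)
  let iW : T' ⟶ T := Over.homMk (Scheme.Opens.ι (X := T.left) W) rfl
  haveI : IsAffine T'.left := hW
  haveI : IsOpenImmersion iW.left := inferInstanceAs (IsOpenImmersion (Scheme.Opens.ι (X := T.left) W))
  let j' := (yon S).map iW ≫ j
  have hj' : RepWith @IsOpenImmersion j' := repWith_comp ((repWith_yon_map_iff _ _).2 inferInstance) hj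
  let V : G.left.Opens := ⟨Points.ofPt p ⁻¹' Set.range (Points.map j'),
    Points.isOpen_iff.1 (AlgSpDec.isOpen_range_openImm hA hj') G p⟩
  have hV : (V : Set G.left).Nonempty := by
    obtain ⟨y, hy⟩ := surjective_ofPt hps (Points.ofPt j' (⟨Points.toScheme T z₀, hzW⟩ : T'.left))
    refine ⟨y, ?_⟩
    show Points.ofPt p y ∈ Set.range (Points.map j')
    rw [hy, Points.ofPt_eq_map_ofScheme]
    exact ⟨_, rfl⟩
  haveI : JacobsonSpace G.left := LocallyOfFiniteType.jacobsonSpace G.hom
  haveI : IsSeparated G.hom := GrpSchLib.AntiAffine.isSeparated_grp G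
  haveI hci' : IsClosedImmersion (lift (rt u) (rs (G := G) (H := H))).left := by
    obtain ⟨i, hi₁, hi₂⟩ := exists_tensor_iso G G
    haveI : IsIso i.inv.left := inferInstanceAs (IsIso ((Over.forget S).map i.inv))
    rw [show lift (rt u) (rs (G := G) (H := H)) = prod.lift (rt u) (rs (G := G) (H := H)) ≫ i.inv from by
      rw [← cancel_mono i.hom, Category.assoc, Iso.inv_hom_id, Category.comp_id]
      apply Limits.prod.hom_ext <;> simp [hi₁, hi₂], Over.comp_left]
    infer_instance
  -- affine charts around closed points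
  let Cl := {y : G.left // IsClosed ({y} : Set G.left)}
  have hchart : ∀ y : Cl, ∃ (C : Over S) (jC : (yon S).obj C ⟶ QuotSh.quot Scheme.fppfPrecoverage (rs (G := G) (H := H)) (rt u)),
      RepWith @IsOpenImmersion jC ∧ ∃ O₀ : G.left.Opens, y.1 ∈ O₀ ∧
        Set.range (Points.map jC) = Points.ofPt p '' (O₀ : Set G.left) := fun y => by
    obtain ⟨N, _, _, _, _, E, hE, J, _, _, τ, O₀, hyO, hO⟩ := exists_translates V hV y.1 y.2
    have hll' : ∀ i, transE (τ i) ≫ transE (τ i)⁻¹ = 𝟙 _ := fun i => by
      rw [transE_comp, inv_mul_cancel, transE_one]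
    have hl'l : ∀ i, transE (τ i)⁻¹ ≫ transE (τ i) = 𝟙 _ := fun i => by
      rw [transE_comp, mul_inv_cancel, transE_one]
    let Lm : (E ⟶ G) → ((G ⊗ H) ⊗ E ⟶ (G ⊗ H) ⊗ E) := fun σ =>
      lift (lift ((snd _ E ≫ σ) * (fst _ E ≫ fst G H)) (fst _ E ≫ snd G H)) (snd _ E)
    have hrt : rt u = fst G H * (snd G H ≫ u) := by rw [← lift_rt u, lift_fst_snd, Category.id_comp]
    have hs : ∀ σ, (rs (G := G) (H := H)) ▷ E ≫ transE σ = Lm σ ≫ (rs (G := G) (H := H)) ▷ E := fun σ => by
      apply CartesianMonoidalCategory.hom_ext <;> simp [transE, Lm, rs, MonObj.comp_mul]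
    have ht : ∀ σ, (rt u) ▷ E ≫ transE σ = Lm σ ≫ (rt u) ▷ E := fun σ => by
      apply CartesianMonoidalCategory.hom_ext <;> simp [transE, Lm, hrt, MonObj.comp_mul, _root_.mul_assoc]
    haveI : Flat (Spec.map (CommRingCat.ofHom (algebraMap k N))) := inferInstance
    haveI : Surjective (Spec.map (CommRingCat.ofHom (algebraMap k N))) :=
      ⟨Function.surjective_to_subsingleton (α := Spec (CommRingCat.of N)) (β := Spec (CommRingCat.of k)) _⟩
    haveI : IsFinite (Spec.map (CommRingCat.ofHom (algebraMap k N))) :=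
      (IsFinite.SpecMap_iff _).mpr (RingHom.finite_algebraMap.mpr inferInstance)
    haveI : LocallyOfFinitePresentation (Spec.map (CommRingCat.ofHom (algebraMap k N))) := inferInstance
    obtain ⟨C, jC, -, hjC, hr⟩ := exists_affine_chart (CommRingCat.ofHom (algebraMap k N)) hE (rt u)
      (rs (G := G) (H := H)) p hp sq j' hj' (fun i => transE (τ i)) (fun i => transE (τ i)⁻¹) hll' hl'l
      (fun i => Lm (τ i)) (fun i => Lm (τ i)⁻¹) (fun i => ht _) (fun i => hs _) (fun i => ht _) (fun i => hs _) O₀ hO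
    exact ⟨C, jC, hjC, O₀, hyO, hr⟩
  choose C jC hjC O₀ hyO hrange using hchart
  have hcov : ∀ x, ∃ y v, Points.ofPt (jC y) v = x := fun x => by
    obtain ⟨y', rfl⟩ := QuotSpace.exists_ofPt_chart p hps x
    obtain ⟨z, hz1, hz⟩ := nonempty_inter_closedPoints (Z := closure {y'})
      ⟨y', subset_closure rfl⟩ isClosed_closure.isLocallyClosed
    have hy : y' ∈ O₀ ⟨z, hz⟩ := (specializes_iff_mem_closure.2 hz1).mem_open (O₀ ⟨z, hz⟩).2 (hyO ⟨z, hz⟩)
    obtain ⟨w, hw⟩ : Points.ofPt p y' ∈ Set.range (Points.map (jC ⟨z, hz⟩)) := by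
      rw [hrange]; exact ⟨y', hy, rfl⟩
    refine ⟨⟨z, hz⟩, Points.toScheme _ w, ?_⟩
    rw [← hw, Points.ofPt_eq_map_ofScheme, Points.ofScheme_toScheme]
  obtain ⟨Q, ⟨e⟩, -⟩ := AlgSpDec.exists_iso_of_open_cover C jC hjC hcov
  obtain ⟨q, hq⟩ := (yon S).map_surjective (p ≫ e.inv)
  have hP : ∀ (P : MorphismProperty Scheme.{u}) [P.IsStableUnderBaseChange],
      RepWith P p → P q.left := fun P _ h => by
    rw [← repWith_yon_map_iff P q, hq]
    have : (RepWith (S := S) P).RespectsIso := MorphismProperty.IsStableUnderBaseChange.respectsIso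
    exact MorphismProperty.RespectsIso.postcomp _ e.inv p h
  haveI hqs' : Surjective q.left := hP @Surjective hps
  haveI hqf : Flat q.left := hP @Flat hpf
  haveI hql : LocallyOfFinitePresentation q.left := hP @LocallyOfFinitePresentation hpl
  haveI : LocallyOfFiniteType Q.hom := by
    haveI : LocallyOfFiniteType (q.left ≫ Q.hom) := by rw [Over.w]; infer_instance
    exact SrcDescent.locallyOfFiniteType_of_fppf_comp q.left Q.hom
  haveI : QuasiCompact Q.hom := by
    haveI : CompactSpace G.left := (quasiCompact_iff_compactSpace G.hom).mp inferInstance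
    haveI : CompactSpace Q.left := q.left.surjective.compactSpace q.left.continuous
    exact (quasiCompact_iff_compactSpace Q.hom).mpr inferInstance
  refine ⟨Q, q, ⟨hqs', hqf, hql, ?_⟩, ?_, inferInstance, inferInstance⟩
  · refine IsPullback.of_map (yon S) ?_ ?_
    · exact (yon S).map_injective (by
        rw [Functor.map_comp, Functor.map_comp, hq, sq.flip.w_assoc])
    · rw [hq]
      exact sq.flip.of_iso (Iso.refl _) (Iso.refl _) (Iso.refl _) e.symm (by rw [Iso.refl_hom, Iso.refl_hom, Category.comp_id, Category.id_comp]) (by rw [Iso.refl_hom, Iso.refl_hom, Category.comp_id, Category.id_comp])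
        (by simp [p]) (by simp [p])
  · have h : RepWith @IsClosedImmersion (Limits.diag ((yon S).obj Q)) :=
      isSeparatedSp_of_iso' e.symm hsep
    exact ⟨(repWith_diag_yon_iff _ Q).1 h⟩

/-- The quotient of an algebraic group by a normal closed subgroup is an algebraic group. -/
theorem exists_quotGrp (G H : Over (Spec (CommRingCat.of k))) [GrpObj G] [GrpObj H]
    [LocallyOfFiniteType G.hom] [QuasiCompact G.hom] [ConnectedSpace G.left] (u : H ⟶ G) [IsMonHom u]
    [IsClosedImmersion u.left] (hn : AlgGrp.IsNormalHom u) :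
    ∃ (Q : Over (Spec (CommRingCat.of k))) (_ : GrpObj Q) (q : G ⟶ Q), IsMonHom q ∧ RedSub.IsQuotient u q ∧
      AlgGrp.IsKernel u q ∧ IsSeparated Q.hom ∧ LocallyOfFiniteType Q.hom ∧ QuasiCompact Q.hom ∧
      (Smooth G.hom → Smooth Q.hom) ∧ ConnectedSpace Q.left := by
  obtain ⟨Q, q, hq, hsep, hft, hqc⟩ := exists_quot G H u
  have hq' := hq
  obtain ⟨hs, hf, hl, hpb⟩ := hq'
  haveI := hs; haveI := hf; haveI := hl; haveI := hsep; haveI := hft; haveI := hqc
  have hp : FpqcDescLib.Covers q.left :=
    FpqcDescLib.covers_of_isCovering (FpqcDescLib.isCovering_of_lfp q.left)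
  have hc : FpqcDescLib.IsCosetMap u q := FpqcDescLib.isCosetMap_of_isPullback hpb
  obtain ⟨sQ, hqm⟩ := FpqcDescLib.exists_grpObj hp hc hn
  letI := sQ
  haveI := hqm
  haveI : Mono u := (Over.forget _).mono_of_mono_map (inferInstanceAs (Mono u.left))
  have hker : AlgGrp.IsKernel u q := by
    have hw : ∀ {T : Over (Spec (CommRingCat.of k))} (x : T ⟶ G),
        x ≫ q = toUnit T ≫ η[Q] ↔ ∃ h : T ⟶ H, h ≫ u = x := fun {T} x => by
      rw [show toUnit T ≫ η[Q] = (1 : T ⟶ G) ≫ q by rw [MonObj.one_comp]; rfl, eq_comm, hc T]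
      simp only [_root_.one_mul, eq_comm]
    refine IsPullback.of_isLimit' ⟨(hw u).2 ⟨𝟙 H, Category.id_comp u⟩⟩ (PullbackCone.IsLimit.mk _
      (fun s => ((hw s.fst).1 (by rw [s.condition]; congr 1; exact toUnit_unique _ _)).choose) ?_ ?_ ?_)
    · intro s
      exact ((hw s.fst).1 (by rw [s.condition]; congr 1; exact toUnit_unique _ _)).choose_spec
    · intro s
      exact toUnit_unique _ _
    · intro s m h1 _
      rw [← cancel_mono u, h1]
      exact ((hw s.fst).1 (by rw [s.condition]; congr 1; exact toUnit_unique _ _)).choose_spec.symm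
  refine ⟨Q, sQ, q, hqm, hq, hker, hsep, hft, hqc, fun h => ?_, ?_⟩
  · haveI : Smooth (q.left ≫ Q.hom) := by rw [Over.w]; exact h
    exact GrpSchLib.smooth_of_flat_surjective q.left Q.hom
  · haveI : Nonempty Q.left := ⟨q.left (Classical.arbitrary _)⟩
    haveI : PreconnectedSpace Q.left := by
      rw [preconnectedSpace_iff_univ, ← q.left.surjective.range_eq]
      exact isPreconnected_range q.left.continuous
    exact ⟨inferInstance⟩

end Groth.Agent.AGStr.QuotField
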