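import Groth.Agent.AGStr.QuotSpace
import Groth.Agent.AlgSpDec.AffineDescent
import Groth.Agent.AlgSpPts.Descent
import Groth.Agent.AlgSpPts.Imm

/-!
# Products of a space with a scheme over a field; intersections of affine charts
-/

set_option backward.isDefEq.respectTransparency false
set_option backward.isDefEq.respectTransparency.types false
set_option linter.style.haveILetI false

universe u

open CategoryTheory Limits MonoidalCategory CartesianMonoidalCategory AlgebraicGeometry AlgSp
open Groth.Agent.AlgSpLib

namespace Groth.Agent.AGStr.QuotField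

variable {S : Scheme.{u}}

theorem isPullback_tensor (U V : Over S) :
    IsPullback ((yon S).map (fst U V)) ((yon S).map (snd U V)) ((yon S).map (toUnit U)) ((yon S).map (toUnit V)) :=
  (IsPullback.of_isLimit_binaryFan_of_isTerminal (CartesianMonoidalCategory.tensorProductIsBinaryProduct U V)
    CartesianMonoidalCategory.isTerminalTensorUnit).map (yon S)

theorem yon_hom_ext_unit {Z : Sp S} (a b : Z ⟶ (yon S).obj (𝟙_ (Over S))) : a = b :=
  (AlgSpPts.isTerminalYon S).hom_ext a b

theorem yon_tensor_ext {U V : Over S} {Z : Sp S} (c d : Z ⟶ (yon S).obj (U ⊗ V))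
    (h₁ : c ≫ (yon S).map (fst U V) = d ≫ (yon S).map (fst U V))
    (h₂ : c ≫ (yon S).map (snd U V) = d ≫ (yon S).map (snd U V)) : c = d :=
  (isPullback_tensor U V).hom_ext h₁ h₂

variable (F : Sp S) (E : Over S)

/-- The map to the base. -/
noncomputable def toBase : F ⟶ (yon S).obj (𝟙_ (Over S)) := (AlgSpPts.isTerminalYon S).from F

/-- The product of a space with a scheme. -/
noncomputable abbrev prodSp (F : Sp S) (E : Over S) : Sp S := pullback (toBase F) ((yon S).map (toUnit E))

/-- The projection to the space. -/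
noncomputable abbrev fstSp (F : Sp S) (E : Over S) : prodSp F E ⟶ F := pullback.fst (toBase F) ((yon S).map (toUnit E))

/-- The projection to the scheme. -/
noncomputable abbrev sndSp (F : Sp S) (E : Over S) : prodSp F E ⟶ (yon S).obj E :=
  pullback.snd (toBase F) ((yon S).map (toUnit E))

variable {F}

/-- The product of a chart with a scheme. -/
noncomputable def chartE (E : Over S) {U : Over S} (a : (yon S).obj U ⟶ F) : (yon S).obj (U ⊗ E) ⟶ prodSp F E :=
  pullback.lift ((yon S).map (fst U E) ≫ a) ((yon S).map (snd U E)) (yon_hom_ext_unit _ _)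

variable {E}

theorem chartE_fst {U : Over S} (a : (yon S).obj U ⟶ F) :
    chartE E a ≫ fstSp F E = (yon S).map (fst U E) ≫ a := pullback.lift_fst _ _ _

theorem chartE_snd {U : Over S} (a : (yon S).obj U ⟶ F) :
    chartE E a ≫ sndSp F E = (yon S).map (snd U E) := pullback.lift_snd _ _ _

theorem isPullback_chartE {U : Over S} (a : (yon S).obj U ⟶ F) :
    IsPullback (chartE E a) ((yon S).map (fst U E)) (fstSp F E) a := by
  refine IsPullback.of_right ?_ (chartE_fst a) (IsPullback.of_hasPullback (toBase F) ((yon S).map (toUnit E))).flip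
  rw [chartE_snd, yon_hom_ext_unit (a ≫ toBase F) ((yon S).map (toUnit U))]
  exact (isPullback_tensor U E).flip

theorem isPullback_kernelPair {U R : Over S} (p : (yon S).obj U ⟶ F) {t s : R ⟶ U}
    (sq : IsPullback ((yon S).map t) ((yon S).map s) p p) :
    IsPullback ((yon S).map (t ▷ E)) ((yon S).map (s ▷ E)) (chartE E p) (chartE E p) := by
  have hw : (yon S).map (t ▷ E) ≫ chartE E p = (yon S).map (s ▷ E) ≫ chartE E p := by
    apply pullback.hom_ext
    · rw [Category.assoc, Category.assoc, chartE_fst, ← Functor.map_comp_assoc, ← Functor.map_comp_assoc,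
        whiskerRight_fst, whiskerRight_fst, Functor.map_comp_assoc, Functor.map_comp_assoc, sq.w]
    · rw [Category.assoc, Category.assoc, chartE_snd, ← Functor.map_comp, ← Functor.map_comp,
        whiskerRight_snd, whiskerRight_snd]
  refine IsPullback.of_isLimit' ⟨hw⟩ (PullbackCone.IsLimit.mk _ (fun c => (isPullback_tensor R E).lift
    (sq.lift (c.fst ≫ (yon S).map (fst U E)) (c.snd ≫ (yon S).map (fst U E)) ?_) (c.fst ≫ (yon S).map (snd U E))
    (yon_hom_ext_unit _ _)) ?_ ?_ ?_)
  · have := congrArg (· ≫ fstSp F E) c.condition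
    simpa [chartE_fst] using this
  · intro c
    apply yon_tensor_ext
    · rw [Category.assoc, ← Functor.map_comp, whiskerRight_fst, Functor.map_comp, ← Category.assoc,
        IsPullback.lift_fst, IsPullback.lift_fst]
    · rw [Category.assoc, ← Functor.map_comp, whiskerRight_snd, IsPullback.lift_snd]
  · intro c
    have h2 : c.fst ≫ (yon S).map (snd U E) = c.snd ≫ (yon S).map (snd U E) := by
      have := congrArg (· ≫ sndSp F E) c.condition
      simpa [chartE_snd] using this
    apply yon_tensor_ext
    · rw [Category.assoc, ← Functor.map_comp, whiskerRight_fst, Functor.map_comp, ← Category.assoc,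
        IsPullback.lift_fst, IsPullback.lift_snd]
    · rw [Category.assoc, ← Functor.map_comp, whiskerRight_snd, IsPullback.lift_snd, h2]
  · intro c m h1 h2
    apply (isPullback_tensor R E).hom_ext
    · rw [IsPullback.lift_fst]
      apply sq.hom_ext
      · rw [IsPullback.lift_fst, ← h1, Category.assoc, Category.assoc, ← Functor.map_comp, ← Functor.map_comp,
          whiskerRight_fst]
      · rw [IsPullback.lift_snd, ← h2, Category.assoc, Category.assoc, ← Functor.map_comp, ← Functor.map_comp,
          whiskerRight_fst]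
    · rw [IsPullback.lift_snd, ← h1, Category.assoc, ← Functor.map_comp, whiskerRight_snd]

/-- Two affine open charts of a separated space meet in an affine chart. -/
theorem exists_inter_affine [IsAffine S] {X : Sp S} (hsep : RepWith @IsClosedImmersion (Limits.diag X)) {Z₁ Z₂ : Over S}
    [IsAffine Z₁.left] [IsAffine Z₂.left] {a : (yon S).obj Z₁ ⟶ X} (ha : RepWith @IsOpenImmersion a)
    {b : (yon S).obj Z₂ ⟶ X} (hb : RepWith @IsOpenImmersion b) :
    ∃ (Z : Over S) (c : (yon S).obj Z ⟶ X), IsAffine Z.left ∧ RepWith @IsOpenImmersion c ∧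
      Set.range (Points.map c) = Set.range (Points.map a) ∩ Set.range (Points.map b) := by
  let W := ha.rep.pullback b
  let w₁ : W ⟶ Z₁ := ha.rep.fst' b
  let w₂ : W ⟶ Z₂ := ha.rep.snd b
  have sqW : IsPullback ((yon S).map w₁) ((yon S).map w₂) a b := ha.rep.isPullback' b
  have sqd := AlgSpPts.isPullback_diag sqW ((yon S).map (fst Z₁ Z₂)) ((yon S).map (snd Z₁ Z₂))
    (fun c d => yon_tensor_ext c d) ((yon S).map (lift w₁ w₂)) (by rw [← Functor.map_comp, lift_fst])
    (by rw [← Functor.map_comp, lift_snd])
  haveI : IsClosedImmersion (lift w₁ w₂).left := hsep.property _ _ _ sqd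
  haveI : IsAffine (Z₁ ⊗ Z₂).left := inferInstanceAs (IsAffine (pullback Z₁.hom Z₂.hom))
  haveI : IsAffine W.left := isAffine_of_isAffineHom (lift w₁ w₂).left
  haveI : IsOpenImmersion w₂.left := ha.property_snd b
  refine ⟨W, (yon S).map w₂ ≫ b, inferInstance, repWith_comp ((repWith_yon_map_iff _ _).2 inferInstance) hb, ?_⟩
  refine Set.Subset.antisymm ?_ ?_
  · rintro _ ⟨z, rfl⟩
    refine ⟨⟨Points.map ((yon S).map w₁) z, ?_⟩, ⟨Points.map ((yon S).map w₂) z, (Points.map_comp _ _ _).symm⟩⟩
    rw [← Points.map_comp, sqW.w]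
  · rintro x ⟨⟨u, hu⟩, ⟨v, hv⟩⟩
    obtain ⟨z, -, hz⟩ := exists_point_of_isPullback sqW (hu.trans hv.symm)
    exact ⟨z, by rw [Points.map_comp, hz, hv]⟩

/-- Finitely many affine open charts of a separated space meet in an affine chart. -/
theorem exists_inter_affine_finset [IsAffine S] {X : Sp S} (hsep : RepWith @IsClosedImmersion (Limits.diag X)) {J : Type u}
    (Z : J → Over S) [∀ i, IsAffine (Z i).left] (a : ∀ i, (yon S).obj (Z i) ⟶ X)
    (ha : ∀ i, RepWith @IsOpenImmersion (a i)) {s : Finset J} (hs : s.Nonempty) :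
    ∃ (W : Over S) (c : (yon S).obj W ⟶ X), IsAffine W.left ∧ RepWith @IsOpenImmersion c ∧
      Set.range (Points.map c) = ⋂ i ∈ s, Set.range (Points.map (a i)) := by
  classical
  induction hs using Finset.Nonempty.cons_induction with
  | singleton i => exact ⟨Z i, a i, inferInstance, ha i, by simp⟩
  | cons i s hi hs ih =>
    obtain ⟨W, c, hW, hc, hr⟩ := ih
    haveI := hW
    obtain ⟨W', c', hW', hc', hr'⟩ := exists_inter_affine hsep (ha i) hc
    exact ⟨W', c', hW', hc', by rw [hr', hr]; simp⟩

end Groth.Agent.AGStr.QuotField
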